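import Mathlib

set_option autoImplicit false
set_option linter.style.haveILetI false
set_option maxHeartbeats 1000000

/-!
Minimal Frobenius groups with element orders `1, p, q`, and products of them (owner: helper18).
-/

namespace CfsgLib.Spectrum.CriticalBlock

/-- A group with element orders `1, p, q` that is minimal among such and has a closed `p`-torsion. -/
structure IsBlock (K : Type) [Group K] (p q : ℕ) : Prop where
  ord : ∀ x : K, orderOf x = 1 ∨ orderOf x = p ∨ orderOf x = q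
  exp : ∃ x : K, orderOf x = p
  exq : ∃ x : K, orderOf x = q
  closed : ∀ x y : K, x ^ p = 1 → y ^ p = 1 → (x * y) ^ p = 1
  notClosed : ∃ x y : K, x ^ q = 1 ∧ y ^ q = 1 ∧ (x * y) ^ q ≠ 1
  gen : ∀ H : Subgroup K, (∃ x ∈ H, orderOf x = p) → (∃ y ∈ H, orderOf y = q) → H = ⊤
  minimal : ∀ N : Subgroup K, N.Normal → N ≠ ⊥ → ∀ x : K, x ^ p = 1 → x ∈ N

variable {p q : ℕ} [Fact p.Prime] [Fact q.Prime]

theorem exists_block (hne : p ≠ q) : ∃ (K : Type) (_ : Group K) (_ : Finite K), IsBlock K p q := by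
  classical
  have hp : p.Prime := Fact.out
  have hq : q.Prime := Fact.out
  set k := orderOf (p : ZMod q) with hk
  have hpq : (p : ZMod q) ≠ 0 := by
    rw [Ne, ZMod.natCast_eq_zero_iff]
    exact fun h => hne ((Nat.prime_dvd_prime_iff_eq hq hp).1 h).symm
  have hk0 : k ≠ 0 := (orderOf_pos_iff.2 (isOfFinOrder_iff_pow_eq_one.2
    ⟨q - 1, by have := hq.two_le; omega, ZMod.pow_card_sub_one_eq_one hpq⟩)).ne'
  let F := GaloisField p k
  haveI : Finite F := inferInstance
  letI : Fintype F := Fintype.ofFinite F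
  have hF : Nat.card F = p ^ k := GaloisField.card p k hk0
  have hdvd : ∀ d : ℕ, q ∣ p ^ d - 1 ↔ k ∣ d := fun d => by
    rw [orderOf_dvd_iff_pow_eq_one, ← Nat.cast_pow, ← Nat.modEq_iff_dvd'
      (Nat.one_le_pow _ _ hp.pos), ← ZMod.natCast_eq_natCast_iff, Nat.cast_one, eq_comm]
  obtain ⟨ζ, hζ⟩ : ∃ ζ : Fˣ, orderOf ζ = q := by
    refine exists_prime_orderOf_dvd_card' q ?_
    rw [Nat.card_units, hF]
    exact (hdvd k).2 dvd_rfl
  haveI : CharP F p := inferInstance
  let K : Subgroup (Equiv.Perm F) :=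
    { carrier := {σ | ∃ c ∈ Subgroup.zpowers ζ, ∃ v : F, ∀ x, σ x = (c : F) * x + v}
      mul_mem' := by
        rintro a b ⟨c, hc, v, hv⟩ ⟨d, hd, w, hw⟩
        exact ⟨c * d, mul_mem hc hd, (c : F) * w + v, fun x => by
          rw [Equiv.Perm.mul_apply, hw, hv, Units.val_mul]; ring⟩
      one_mem' := ⟨1, one_mem _, 0, fun x => by simp⟩
      inv_mem' := by
        rintro a ⟨c, hc, v, hv⟩
        refine ⟨c⁻¹, inv_mem hc, -((c⁻¹ : Fˣ) : F) * v, fun x => ?_⟩
        rw [Equiv.Perm.inv_def, Equiv.symm_apply_eq, hv]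
        rw [mul_add, Units.mul_inv_cancel_left, neg_mul, mul_neg, Units.mul_inv_cancel_left,
          neg_add_cancel_right] }
  let T : F → K := fun v => ⟨Equiv.addRight v, 1, one_mem _, v, fun x => by simp⟩
  let L : K := ⟨Equiv.mulLeft₀ (ζ : F) ζ.ne_zero, ζ, Subgroup.mem_zpowers ζ, 0, fun x => by simp⟩
  have hTapp : ∀ v x, (T v : Equiv.Perm F) x = x + v := fun v x => rfl
  have hTadd : ∀ v w, T v * T w = T (w + v) := fun v w => Subtype.ext (Equiv.ext fun x => by
    show (T v : Equiv.Perm F) ((T w : Equiv.Perm F) x) = _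
    rw [hTapp, hTapp, hTapp, add_assoc])
  have hT0 : T 0 = 1 := Subtype.ext (Equiv.ext fun x => by rw [hTapp]; simp)
  have hTinj : ∀ v, T v = 1 → v = 0 := fun v h => by
    have := congrArg (fun σ : K => (σ : Equiv.Perm F) 0) h
    simpa [hTapp] using this
  have hTpow : ∀ (v : F) (n : ℕ), T v ^ n = T (n • v) := by
    intro v n
    induction n with
    | zero => rw [pow_zero, zero_smul, hT0]
    | succ n ih => rw [pow_succ, ih, hTadd, succ_nsmul']
  have hTp : ∀ v, T v ^ p = 1 := fun v => by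
    rw [hTpow, nsmul_eq_mul, CharP.cast_eq_zero, zero_mul, hT0]
  have hTord : ∀ v, v ≠ 0 → orderOf (T v) = p := fun v hv =>
    orderOf_eq_prime (hTp v) fun e => hv (hTinj v e)
  -- every element is a translation or has order `q`
  have hcases : ∀ σ : K, (∃ v, σ = T v) ∨ (orderOf σ = q ∧ ∃ c : Fˣ, c ∈ Subgroup.zpowers ζ ∧
      c ≠ 1 ∧ ∃ v : F, ∀ x, (σ : Equiv.Perm F) x = (c : F) * x + v) := by
    rintro ⟨σ, c, hc, v, hv⟩
    by_cases hc1 : c = 1
    · left
      refine ⟨v, Subtype.ext (Equiv.ext fun x => ?_)⟩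
      rw [hTapp]
      show σ x = x + v
      rw [hv, hc1, Units.val_one, one_mul]
    · right
      have hc1' : (c : F) ≠ 1 := fun e => hc1 (Units.ext e)
      refine ⟨orderOf_eq_prime (Subtype.ext (Equiv.ext fun x => ?_)) fun e => hc1' ?_,
        c, hc, hc1, v, hv⟩
      · have hcq : c ^ q = 1 := by
          obtain ⟨j, rfl⟩ := Subgroup.mem_zpowers_iff.1 hc
          rw [← zpow_natCast, zpow_comm, zpow_natCast, ← hζ, pow_orderOf_eq_one, one_zpow]
        set x0 := v / (1 - (c : F))
        have h1c : 1 - (c : F) ≠ 0 := sub_ne_zero.2 (Ne.symm hc1')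
        have hfix : ∀ y, σ y = (c : F) * (y - x0) + x0 := fun y => by
          rw [hv]
          have hx0 : (1 - (c : F)) * x0 = v := mul_div_cancel₀ v h1c
          linear_combination -hx0
        have hpow : ∀ (n : ℕ) y, (σ ^ n) y = (c : F) ^ n * (y - x0) + x0 := by
          intro n
          induction n with
          | zero => intro y; simp
          | succ n ih => intro y; rw [pow_succ', Equiv.Perm.mul_apply, ih, hfix, pow_succ']; ring
        show (σ ^ q) x = x
        rw [hpow, ← Units.val_pow_eq_pow_val, hcq, Units.val_one]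
        ring
      · have e' : σ = 1 := congrArg Subtype.val e
        have h0 := hv 0
        have h1 := hv 1
        rw [e', Equiv.Perm.one_apply] at h0 h1
        rw [mul_zero, zero_add] at h0
        rw [← h0, add_zero, mul_one] at h1
        exact h1.symm
  have htrans : ∀ σ : K, σ ^ p = 1 → ∃ v, σ = T v := fun σ hσ =>
    (hcases σ).resolve_right fun h => hne.symm (((Nat.prime_dvd_prime_iff_eq hq hp).1
      (h.1 ▸ orderOf_dvd_of_pow_eq_one hσ)))
  -- an additive subgroup of translations normalized by a non-translation is everything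
  have hfull : ∀ (H : Subgroup K) (σ : K) (c : Fˣ), c ∈ Subgroup.zpowers ζ → c ≠ 1 →
      (∃ v, ∀ x, (σ : Equiv.Perm F) x = (c : F) * x + v) →
      (∀ h ∈ H, σ * h * σ⁻¹ ∈ H) → (∃ v, v ≠ 0 ∧ T v ∈ H) → ∀ v, T v ∈ H := by
    rintro H σ c hc hc1 ⟨w, hw⟩ hnorm ⟨v0, hv0, hv0H⟩
    have hconj : ∀ v, T v ∈ H → T ((c : F) * v) ∈ H := fun v hv => by
      have : σ * T v = T ((c : F) * v) * σ := Subtype.ext (Equiv.ext fun x => by
        show (σ : Equiv.Perm F) ((T v : Equiv.Perm F) x) = (T _ : Equiv.Perm F) ((σ : Equiv.Perm F) x)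
        rw [hTapp, hTapp, hw, hw]; ring)
      have h2 := hnorm _ hv
      rwa [this, mul_inv_cancel_right] at h2
    have hneg : ∀ v, T v ∈ H → T (-v) ∈ H := fun v hv => by
      have : T (-v) = (T v)⁻¹ := eq_inv_of_mul_eq_one_left (by rw [hTadd, add_neg_cancel, hT0])
      exact this ▸ H.inv_mem hv
    let R : Subring F :=
      { carrier := {r | ∀ v, T v ∈ H → T (r * v) ∈ H}
        mul_mem' := fun {a b} ha hb v hv => by rw [mul_assoc]; exact ha _ (hb v hv)
        one_mem' := fun v hv => by rwa [one_mul]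
        add_mem' := fun {a b} ha hb v hv => by
          rw [add_mul, ← hTadd]
          exact H.mul_mem (hb v hv) (ha v hv)
        zero_mem' := fun v hv => by rw [zero_mul, hT0]; exact H.one_mem
        neg_mem' := fun {a} ha v hv => by rw [neg_mul]; exact hneg _ (ha v hv) }
    let E : Subfield F :=
      { R with
        inv_mem' := fun r hr => by
          by_cases h0 : r = 0
          · rw [h0, inv_zero]; exact R.zero_mem
          · have h2 : 2 ≤ Fintype.card F := Fintype.one_lt_card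
            have : r⁻¹ = r ^ (Fintype.card F - 2) := by
              refine inv_eq_of_mul_eq_one_right ?_
              rw [← pow_succ', show Fintype.card F - 2 + 1 = Fintype.card F - 1 by omega,
                FiniteField.pow_card_sub_one_eq_one r h0]
            rw [this]
            exact R.pow_mem hr _ }
    have hcE : (c : F) ∈ E := hconj
    letI : Fintype E := Fintype.ofFinite E
    obtain ⟨d, hd, hEd⟩ := (Nat.dvd_prime_pow hp).1
      (hF ▸ AddSubgroup.card_addSubgroup_dvd_card E.toAddSubgroup : Nat.card E ∣ p ^ k)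
    have h1 : (c : F) ^ (p ^ d - 1) = 1 := by
      have h2 := FiniteField.pow_card_sub_one_eq_one (⟨c, hcE⟩ : E)
        (fun e => c.ne_zero (congrArg Subtype.val e))
      rw [← Nat.card_eq_fintype_card, hEd] at h2
      exact congrArg Subtype.val h2
    have hco : orderOf c = q := by
      obtain ⟨j, rfl⟩ := Subgroup.mem_zpowers_iff.1 hc
      refine orderOf_eq_prime ?_ hc1
      rw [← zpow_natCast, zpow_comm, zpow_natCast, ← hζ, pow_orderOf_eq_one, one_zpow]
    have h3 : q ∣ p ^ d - 1 := hco ▸ orderOf_dvd_of_pow_eq_one (Units.ext (by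
      rw [Units.val_pow_eq_pow_val, h1, Units.val_one]))
    have hd0 : d ≠ 0 := fun e => by
      have : 1 < Nat.card E := Finite.one_lt_card
      rw [hEd, e, pow_zero] at this
      omega
    have hdk : d = k := le_antisymm hd (Nat.le_of_dvd (Nat.pos_of_ne_zero hd0) ((hdvd d).1 h3))
    have htop : E.toAddSubgroup = ⊤ := AddSubgroup.eq_top_of_card_eq _
      ((hEd.trans (congrArg (p ^ ·) hdk)).trans hF.symm)
    intro v
    have hr : v / v0 ∈ E.toAddSubgroup := htop ▸ AddSubgroup.mem_top _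
    have := hr v0 hv0H
    rwa [div_mul_cancel₀ v hv0] at this
  have hnontriv : ∃ v : F, v ≠ 0 := exists_ne 0
  refine ⟨K, inferInstance, inferInstance, ?_, ?_, ?_, ?_, ?_, ?_, ?_⟩
  · intro σ
    rcases hcases σ with ⟨v, rfl⟩ | ⟨h, -⟩
    · by_cases hv : v = 0
      · exact Or.inl (by rw [hv, hT0, orderOf_one])
      · exact Or.inr (Or.inl (hTord v hv))
    · exact Or.inr (Or.inr h)
  · exact ⟨T 1, hTord 1 one_ne_zero⟩
  · refine ⟨L, ((hcases L).resolve_left ?_).1⟩
    rintro ⟨v, hv⟩
    have h0 := congrArg (fun σ : K => (σ : Equiv.Perm F) 0) hv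
    have h1 := congrArg (fun σ : K => (σ : Equiv.Perm F) 1) hv
    simp [L, hTapp] at h0 h1
    rw [← h0] at h1
    have : ζ = 1 := Units.ext (by simpa using h1)
    rw [this, orderOf_one] at hζ
    exact hq.one_lt.ne hζ
  · intro x y hx hy
    obtain ⟨v, rfl⟩ := htrans x hx
    obtain ⟨w, rfl⟩ := htrans y hy
    rw [hTadd]
    exact hTp _
  · refine ⟨L, L⁻¹ * T 1, ?_, ?_, ?_⟩
    · rcases hcases L with ⟨v, hv⟩ | ⟨h, -⟩
      · exfalso
        have h0 := congrArg (fun σ : K => (σ : Equiv.Perm F) 0) hv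
        have h1 := congrArg (fun σ : K => (σ : Equiv.Perm F) 1) hv
        simp [L, hTapp] at h0 h1
        rw [← h0] at h1
        have : ζ = 1 := Units.ext (by simpa using h1)
        rw [this, orderOf_one] at hζ
        exact hq.one_lt.ne hζ
      · rw [← h, pow_orderOf_eq_one]
    · rcases hcases (L⁻¹ * T 1) with ⟨v, hv⟩ | ⟨h, -⟩
      · exfalso
        have hL : L = T (-v + 1) := by
          rw [← hTadd, ← eq_inv_mul_iff_mul_eq.1 (hv.symm), mul_assoc, hTadd, neg_add_cancel]
          simp [hT0]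
        have h0 := congrArg (fun σ : K => (σ : Equiv.Perm F) 0) hL
        have h1 := congrArg (fun σ : K => (σ : Equiv.Perm F) 1) hL
        simp [L, hTapp] at h0 h1
        rw [← h0] at h1
        have : ζ = 1 := Units.ext (by simpa using h1)
        rw [this, orderOf_one] at hζ
        exact hq.one_lt.ne hζ
      · rw [← h, pow_orderOf_eq_one]
    · rw [mul_inv_cancel_left]
      intro e
      have h2 := orderOf_dvd_of_pow_eq_one e
      rw [hTord 1 one_ne_zero] at h2
      exact hne ((Nat.prime_dvd_prime_iff_eq hp hq).1 h2)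
  · rintro H ⟨x, hxH, hx⟩ ⟨y, hyH, hy⟩
    obtain ⟨v, rfl⟩ := htrans x (hx ▸ pow_orderOf_eq_one x)
    have hv : v ≠ 0 := fun e => by
      rw [e, hT0, orderOf_one] at hx
      exact hp.one_lt.ne hx
    obtain ⟨-, c, hc, hc1, w, hw⟩ := (hcases y).resolve_left fun ⟨u, hu⟩ => by
      have h2 : q ∣ p := hy ▸ orderOf_dvd_of_pow_eq_one (hu ▸ hTp u)
      exact hne ((Nat.prime_dvd_prime_iff_eq hq hp).1 h2).symm
    have hall := hfull H y c hc hc1 ⟨w, hw⟩
      (fun h hh => H.mul_mem (H.mul_mem hyH hh) (H.inv_mem hyH)) ⟨v, hv, hxH⟩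
    rw [eq_top_iff]
    rintro ⟨σ, d, hd, u, hu⟩ -
    obtain ⟨i, hi⟩ : ∃ i : ℕ, c ^ i = d := by
      have hgen : Subgroup.zpowers c = Subgroup.zpowers ζ := by
        refine Subgroup.eq_of_le_of_card_ge (Subgroup.zpowers_le.2 hc) ?_
        rw [Nat.card_zpowers, Nat.card_zpowers, hζ]
        obtain ⟨j, rfl⟩ := Subgroup.mem_zpowers_iff.1 hc
        refine (orderOf_eq_prime ?_ hc1).ge
        rw [← zpow_natCast, zpow_comm, zpow_natCast, ← hζ, pow_orderOf_eq_one, one_zpow]
      exact Submonoid.mem_powers_iff _ _ |>.1 ((isOfFinOrder_of_finite c).mem_powers_iff_mem_zpowers.2 (hgen ▸ hd))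
    have hlin : ∀ n : ℕ, ∃ t : F, ∀ x, ((y ^ n : K) : Equiv.Perm F) x = (c : F) ^ n * x + t := by
      intro n
      induction n with
      | zero => exact ⟨0, fun x => by simp⟩
      | succ n ih =>
        obtain ⟨t, ht⟩ := ih
        refine ⟨(c : F) * t + w, fun x => ?_⟩
        rw [pow_succ', Subgroup.coe_mul, Equiv.Perm.mul_apply, ht, hw, pow_succ']
        ring
    obtain ⟨t, ht⟩ := hlin i
    have he : (⟨σ, d, hd, u, hu⟩ : K) = T (u - t) * y ^ i := Subtype.ext (Equiv.ext fun x => by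
      show σ x = (T (u - t) : Equiv.Perm F) (((y ^ i : K) : Equiv.Perm F) x)
      rw [hTapp, ht, hu, ← hi, Units.val_pow_eq_pow_val]
      ring)
    rw [he]
    exact H.mul_mem (hall _) (H.pow_mem hyH i)
  · intro N hN hne' x hx
    obtain ⟨v, rfl⟩ := htrans x hx
    obtain ⟨n, hn, hn1⟩ := (Subgroup.ne_bot_iff_exists_ne_one).1 hne' |>.elim fun a ha =>
      (⟨a.1, a.2, fun e => ha (Subtype.ext e)⟩ : ∃ n ∈ N, n ≠ 1)
    have hv0 : ∃ v, v ≠ 0 ∧ T v ∈ N := by
      rcases hcases n with ⟨u, rfl⟩ | ⟨-, c, -, hc1, w, hw⟩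
      · exact ⟨u, fun e => hn1 (e ▸ hT0), hn⟩
      · refine ⟨(c : F) - 1, sub_ne_zero.2 fun e => hc1 (Units.ext e), ?_⟩
        have h1 := N.mul_mem hn (hN.conj_mem _ (N.inv_mem hn) (T 1))
        have : n * (T 1 * n⁻¹ * (T 1)⁻¹) = T ((c : F) - 1) := by
          rw [← mul_assoc, ← mul_assoc, mul_inv_eq_iff_eq_mul, hTadd, mul_inv_eq_iff_eq_mul]
          exact Subtype.ext (Equiv.ext fun x => by
            show (n : Equiv.Perm F) ((T 1 : Equiv.Perm F) x) =
              (T (1 + ((c : F) - 1)) : Equiv.Perm F) ((n : Equiv.Perm F) x)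
            rw [hTapp, hTapp, hw, hw]; ring)
        rwa [this] at h1
    refine hfull N L ζ (Subgroup.mem_zpowers ζ) (fun e => ?_) ⟨0, fun x => by simp [L]⟩
      (fun h hh => hN.conj_mem h hh L) hv0 v
    rw [e, orderOf_one] at hζ
    exact hq.one_lt.ne hζ

end CfsgLib.Spectrum.CriticalBlock
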