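import Cfsg.Agent.Lib.Spectrum.CriticalBlock

set_option autoImplicit false
set_option linter.style.haveILetI false
set_option linter.unusedSectionVars false

/-!
Products of minimal blocks over disjoint pairs of primes (owner: helper18).
-/

namespace CfsgLib.Spectrum.CriticalProduct

open CriticalBlock

variable {ι : Type} [Fintype ι] [DecidableEq ι] (K : ι → Type) [∀ j, Group (K j)] [∀ j, Finite (K j)]
  {p q : ι → ℕ}

/-- The pairs of primes are disjoint. -/
structure IsPairs (p q : ι → ℕ) : Prop where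
  hp : ∀ j, (p j).Prime
  hq : ∀ j, (q j).Prime
  ne : ∀ j, p j ≠ q j
  disj : ∀ j l, j ≠ l → p j ≠ p l ∧ p j ≠ q l ∧ q j ≠ q l

variable {K}
variable (h : IsPairs p q) (hK : ∀ j, IsBlock (K j) (p j) (q j))
include h hK

theorem coprime_of_ne {j l : ι} (hjl : j ≠ l) (x : K l) {P : ℕ} (hP : P = p j ∨ P = q j) :
    P.Coprime (orderOf x) := by
  have hP' : P.Prime := by rcases hP with rfl | rfl <;> [exact h.hp j; exact h.hq j]
  have h1 := h.disj j l hjl
  have h2 := h.disj l j hjl.symm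
  rcases (hK l).ord x with e | e | e <;> rw [e]
  · exact Nat.coprime_one_right P
  · refine (Nat.coprime_primes hP' (h.hp l)).2 ?_
    rcases hP with rfl | rfl <;> [exact h1.1; exact h2.2.1.symm]
  · refine (Nat.coprime_primes hP' (h.hq l)).2 ?_
    rcases hP with rfl | rfl <;> [exact h1.2.1; exact h1.2.2]

theorem orderOf_eq_prod (x : ∀ j, K j) : orderOf x = ∏ j, orderOf (x j) := by
  refine Nat.dvd_antisymm (orderOf_dvd_of_pow_eq_one (funext fun j => ?_)) ?_
  · rw [Pi.pow_apply, Pi.one_apply]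
    exact orderOf_dvd_iff_pow_eq_one.1 (Finset.dvd_prod_of_mem _ (Finset.mem_univ j))
  · refine Fintype.prod_dvd_of_isRelPrime (fun j l hjl => Nat.coprime_iff_isRelPrime.1 ?_)
      fun j => orderOf_map_dvd (Pi.evalMonoidHom K j) x
    show (orderOf (x j)).Coprime (orderOf (x l))
    rcases (hK j).ord (x j) with e | e | e <;> rw [e]
    · exact Nat.coprime_one_left _
    · exact coprime_of_ne h hK hjl _ (Or.inl rfl)
    · exact coprime_of_ne h hK hjl _ (Or.inr rfl)

/-- The spectrum of the product. -/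
theorem range_orderOf : Set.range (orderOf : (∀ j, K j) → ℕ) =
    {m | ∃ c : ι → ℕ, (∀ j, c j = 1 ∨ c j = p j ∨ c j = q j) ∧ m = ∏ j, c j} := by
  ext m
  constructor
  · rintro ⟨x, rfl⟩
    exact ⟨fun j => orderOf (x j), fun j => (hK j).ord (x j), orderOf_eq_prod h hK x⟩
  · rintro ⟨c, hc, rfl⟩
    have hex : ∀ j, ∃ x : K j, orderOf x = c j := fun j => by
      rcases hc j with e | e | e <;> rw [e]
      exacts [⟨1, orderOf_one⟩, (hK j).exp, (hK j).exq]
    choose x hx using hex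
    exact ⟨x, (orderOf_eq_prod h hK x).trans (Finset.prod_congr rfl fun j _ => hx j)⟩

/-- An exponent prime to `P` that kills everything outside the part of order `P` at the place `j`. -/
theorem exists_exponent (j : ι) {P : ℕ} (hP : P = p j ∨ P = q j) :
    ∃ M : ℕ, P.Coprime M ∧ ∀ x : ∀ l, K l, ∃ y : K j, x ^ M = Pi.mulSingle j y ∧ y ^ P = 1 := by
  have hP' : P.Prime := by rcases hP with rfl | rfl <;> [exact h.hp j; exact h.hq j]
  set O := if P = p j then q j else p j with hO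
  have hPO : P * O = p j * q j := by
    rcases hP with rfl | rfl
    · rw [hO, if_pos rfl]
    · rw [hO, if_neg (h.ne j).symm, mul_comm]
  refine ⟨O * ∏ l ∈ Finset.univ.erase j, (p l * q l), ?_, fun x => ?_⟩
  · refine Nat.Coprime.mul_right ?_ (Nat.Coprime.prod_right fun l hl => ?_)
    · rcases hP with rfl | rfl
      · rw [hO, if_pos rfl]; exact (Nat.coprime_primes (h.hp j) (h.hq j)).2 (h.ne j)
      · rw [hO, if_neg (h.ne j).symm]; exact (Nat.coprime_primes (h.hq j) (h.hp j)).2 (h.ne j).symm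
    · have hlj := (Finset.mem_erase.1 hl).1
      have h1 := h.disj j l hlj.symm
      have h2 := h.disj l j hlj
      refine Nat.Coprime.mul_right ((Nat.coprime_primes hP' (h.hp l)).2 ?_)
        ((Nat.coprime_primes hP' (h.hq l)).2 ?_)
      · rcases hP with rfl | rfl <;> [exact h1.1; exact h2.2.1.symm]
      · rcases hP with rfl | rfl <;> [exact h1.2.1; exact h1.2.2]
  · have hkill : ∀ l, ∀ y : K l, y ^ (p l * q l) = 1 := fun l y => by
      apply orderOf_dvd_iff_pow_eq_one.1
      rcases (hK l).ord y with e | e | e <;> rw [e]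
      exacts [one_dvd _, dvd_mul_right _ _, dvd_mul_left _ _]
    refine ⟨x j ^ (O * ∏ l ∈ Finset.univ.erase j, (p l * q l)), funext fun l => ?_, ?_⟩
    · rw [Pi.pow_apply]
      by_cases hl : l = j
      · subst hl; rw [Pi.mulSingle_eq_same]
      · rw [Pi.mulSingle_eq_of_ne hl]
        obtain ⟨n, hn⟩ : (p l * q l) ∣ O * ∏ i ∈ Finset.univ.erase j, (p i * q i) :=
          (Finset.dvd_prod_of_mem (fun i => p i * q i) (Finset.mem_erase.2 ⟨hl, Finset.mem_univ l⟩)).trans (dvd_mul_left _ _)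
        rw [hn, pow_mul, hkill, one_pow]
    · rw [← pow_mul, mul_comm, ← mul_assoc, hPO, pow_mul, hkill, one_pow]

/-- The product is critical. -/
theorem critical (H : Subgroup (∀ j, K j)) (N : Subgroup H) [N.Normal] (hne : H ≠ ⊤ ∨ N ≠ ⊥) :
    Set.range (orderOf : (H ⧸ N) → ℕ) ≠
      {m | ∃ c : ι → ℕ, (∀ j, c j = 1 ∨ c j = p j ∨ c j = q j) ∧ m = ∏ j, c j} := by
  intro heq
  -- for each prime a witness in `H` outside `N`
  have hwit : ∀ j, ∀ P, (P = p j ∨ P = q j) → ∃ y : K j, orderOf y = P ∧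
      ∃ hy : Pi.mulSingle j y ∈ H, (⟨_, hy⟩ : H) ∉ N := by
    intro j P hP
    have hP' : P.Prime := by rcases hP with rfl | rfl <;> [exact h.hp j; exact h.hq j]
    obtain ⟨M, hM, hMx⟩ := exists_exponent h hK j hP
    obtain ⟨u, hu⟩ : P ∈ Set.range (orderOf : (H ⧸ N) → ℕ) := by
      rw [heq]
      refine ⟨fun l => if l = j then P else 1, fun l => ?_, ?_⟩
      · by_cases hl : l = j
        · subst hl; simp only [if_pos]; rcases hP with rfl | rfl <;> simp
        · simp [hl]
      · rw [Finset.prod_ite_eq' Finset.univ j fun _ => P]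
        simp
    obtain ⟨⟨x, hx⟩, rfl⟩ := QuotientGroup.mk'_surjective N u
    obtain ⟨y, hy, hyP⟩ := hMx x
    have hyH : Pi.mulSingle j y ∈ H := hy ▸ H.pow_mem hx M
    have hnot : (⟨_, hyH⟩ : H) ∉ N := by
      intro hN
      have h1 : (QuotientGroup.mk' N (⟨x, hx⟩ : H)) ^ M = 1 := by
        rw [← map_pow]
        refine (QuotientGroup.eq_one_iff _).2 ?_
        rwa [show (⟨x, hx⟩ : H) ^ M = ⟨_, hyH⟩ from Subtype.ext hy]
      have h2 := orderOf_dvd_of_pow_eq_one h1
      rw [hu] at h2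
      exact hP'.one_lt.ne' (Nat.eq_one_of_dvd_coprimes hM dvd_rfl h2)
    haveI := Fact.mk hP'
    refine ⟨y, orderOf_eq_prime hyP fun e => hnot ?_, hyH, hnot⟩
    have : (⟨_, hyH⟩ : H) = 1 := Subtype.ext (show Pi.mulSingle j y = 1 by rw [e, Pi.mulSingle_one])
    rw [this]
    exact one_mem N
  have htop : H = ⊤ := by
    rw [eq_top_iff]
    intro x _
    refine Subgroup.pi_mem_of_mulSingle_mem x fun j => ?_
    have hj : H.comap (MonoidHom.mulSingle K j) = ⊤ := by
      obtain ⟨a, ha, haH, -⟩ := hwit j (p j) (Or.inl rfl)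
      obtain ⟨b, hb, hbH, -⟩ := hwit j (q j) (Or.inr rfl)
      exact (hK j).gen _ ⟨a, haH, ha⟩ ⟨b, hbH, hb⟩
    exact hj.ge (Subgroup.mem_top (x j))
  subst htop
  obtain ⟨⟨n, hnH⟩, hn, hn1⟩ : ∃ n ∈ N, n ≠ 1 := by
    by_contra hcon
    simp only [not_exists, not_and, not_not] at hcon
    exact (hne.resolve_left fun e => e rfl) ((Subgroup.eq_bot_iff_forall _).2 hcon)
  obtain ⟨j, hj⟩ : ∃ j, n j ≠ 1 := by
    by_contra hcon
    simp only [not_exists, not_not] at hcon
    exact hn1 (Subtype.ext (funext hcon))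
  set Nj : Subgroup (K j) := (N.map (⊤ : Subgroup (∀ l, K l)).subtype).comap (MonoidHom.mulSingle K j)
    with hNj
  have hmem : ∀ y, y ∈ Nj ↔ (⟨Pi.mulSingle j y, trivial⟩ : (⊤ : Subgroup (∀ l, K l))) ∈ N := fun y =>
    ⟨fun ⟨w, hw, e⟩ => (Subtype.ext (a2 := (⟨Pi.mulSingle j y, trivial⟩ : (⊤ : Subgroup (∀ l, K l)))) e : w = _) ▸ hw, fun hy => ⟨_, hy, rfl⟩⟩
  haveI : Nj.Normal := ⟨fun y hy g => by
    rw [hmem] at hy ⊢
    have := Subgroup.Normal.conj_mem inferInstance _ hy (⟨Pi.mulSingle j g, trivial⟩ : (⊤ : Subgroup (∀ l, K l)))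
    convert this using 1
    apply Subtype.ext
    show Pi.mulSingle j (g * y * g⁻¹) = Pi.mulSingle j g * Pi.mulSingle j y * (Pi.mulSingle j g)⁻¹
    rw [← Pi.mulSingle_mul, ← Pi.mulSingle_inv, ← Pi.mulSingle_mul]⟩
  -- `n j` does not commute with everything
  obtain ⟨g, hg⟩ : ∃ g : K j, n j * g ≠ g * n j := by
    by_contra hcon
    simp only [not_exists, not_not] at hcon
    have hcase : ∀ (P R : ℕ), P.Prime → R.Prime → P ≠ R → orderOf (n j) = P →
        (∃ g : K j, orderOf g = R) → False := by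
      intro P R hP hR hPR hn' ⟨g, hg⟩
      have h1 : orderOf (n j * g) = P * R := by
        rw [(show Commute (n j) g from hcon g).orderOf_mul_eq_mul_orderOf_of_coprime
          (hn' ▸ hg ▸ (Nat.coprime_primes hP hR).2 hPR), hn', hg]
      have h3 : ∀ T : ℕ, T.Prime → orderOf (n j * g) ≠ T := fun T hT e => by
        rw [h1] at e
        exact Nat.not_prime_mul hP.ne_one hR.ne_one (e ▸ hT)
      rcases (hK j).ord (n j * g) with e | e | e
      · rw [h1] at e
        exact hP.ne_one (mul_eq_one.1 e).1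
      · exact h3 _ (h.hp j) e
      · exact h3 _ (h.hq j) e
    rcases (hK j).ord (n j) with e | e | e
    · exact hj (orderOf_eq_one_iff.1 e)
    · exact hcase _ _ (h.hp j) (h.hq j) (h.ne j) e (hK j).exq
    · exact hcase _ _ (h.hq j) (h.hp j) (h.ne j).symm e (hK j).exp
  have hbot : Nj ≠ ⊥ := by
    intro e
    have hc : n j * g * (n j)⁻¹ * g⁻¹ ∈ Nj := by
      rw [hmem]
      have := N.mul_mem hn (Subgroup.Normal.conj_mem inferInstance _ (N.inv_mem hn)
        (⟨Pi.mulSingle j g, trivial⟩ : (⊤ : Subgroup (∀ l, K l))))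
      convert this using 1
      apply Subtype.ext
      show Pi.mulSingle j (n j * g * (n j)⁻¹ * g⁻¹) =
        n * (Pi.mulSingle j g * n⁻¹ * (Pi.mulSingle j g)⁻¹)
      funext l
      by_cases hl : l = j
      · subst hl
        simp [mul_assoc]
      · simp [hl]
    rw [e, Subgroup.mem_bot, mul_inv_eq_one, mul_inv_eq_iff_eq_mul] at hc
    exact hg hc
  obtain ⟨a, ha, haH, hnot⟩ := hwit j (p j) (Or.inl rfl)
  exact hnot ((hmem a).1 ((hK j).minimal Nj inferInstance hbot a (ha ▸ pow_orderOf_eq_one a)))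

/-- Elements killed by the first prime of a place multiply to such. -/
theorem closed (j : ι) {x y : ∀ l, K l} (hx : x ^ p j = 1) (hy : y ^ p j = 1) : (x * y) ^ p j = 1 := by
  funext l
  rw [Pi.pow_apply, Pi.one_apply, Pi.mul_apply]
  by_cases hl : j = l
  · subst hl
    exact (hK j).closed _ _ (congrFun hx j) (congrFun hy j)
  · have key : ∀ z : K l, z ^ p j = 1 → z = 1 := fun z hz => by
      exact orderOf_eq_one_iff.1 (Nat.eq_one_of_dvd_coprimes
        (coprime_of_ne h hK hl z (Or.inl rfl)) (orderOf_dvd_of_pow_eq_one hz) dvd_rfl)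
    rw [key _ (congrFun hx l), key _ (congrFun hy l), one_mul, one_pow]

theorem not_closed (j : ι) : ∃ x y : ∀ l, K l, x ^ q j = 1 ∧ y ^ q j = 1 ∧ (x * y) ^ q j ≠ 1 := by
  obtain ⟨x, y, hx, hy, hxy⟩ := (hK j).notClosed
  refine ⟨Pi.mulSingle j x, Pi.mulSingle j y, ?_, ?_, fun e => hxy ?_⟩
  · rw [← Pi.mulSingle_pow, hx, Pi.mulSingle_one]
  · rw [← Pi.mulSingle_pow, hy, Pi.mulSingle_one]
  · have := congrFun e j
    simpa using this

end CfsgLib.Spectrum.CriticalProduct
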