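import Cfsg.Prelude.Def_Classical
import Mathlib.LinearAlgebra.SymplecticGroup
import Mathlib.LinearAlgebra.Matrix.Charpoly.Coeff

/-!
# The element orders of `PSp_4(3)`

The characteristic polynomial of a symplectic matrix is palindromic, so there are nine of them over
the field with three elements, and each divides some `X ^ k ± 1` with `k ∈ {4, 5, 6, 9, 12}`.
-/

set_option autoImplicit false
set_option linter.all false

namespace CfsgLib.Spectrum.PSpFourThree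

open Matrix Polynomial

/-- The set of element orders. -/
def orders : Set ℕ := {1, 2, 3, 4, 5, 6, 9, 12}

theorem mem_orders_of_dvd {k n : ℕ} (hk : k ∈ ({4, 5, 6, 9, 12} : Set ℕ)) (hn : n ∣ k) :
    n ∈ orders := by
  simp only [Set.mem_insert_iff, Set.mem_singleton_iff] at hk
  have hk0 : 0 < k := by omega
  have hle := Nat.le_of_dvd hk0 hn
  have hn0 : 0 < n := Nat.pos_of_dvd_of_pos hn hk0
  unfold orders
  rcases hk with rfl | rfl | rfl | rfl | rfl <;> interval_cases n <;> revert hn <;> simp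

theorem exists_dvd (a b : ZMod 3) :
    ∃ k ∈ ({4, 5, 6, 9, 12} : Set ℕ),
      (X ^ 4 + C a * X ^ 3 + C b * X ^ 2 + C a * X + 1 : (ZMod 3)[X]) ∣ X ^ k - 1 ∨
      (X ^ 4 + C a * X ^ 3 + C b * X ^ 2 + C a * X + 1 : (ZMod 3)[X]) ∣ X ^ k + 1 := by
  have h3 : (3 : (ZMod 3)[X]) = 0 := by
    rw [← map_ofNat C 3, show (OfNat.ofNat 3 : ZMod 3) = 0 from rfl, map_zero]
  have c0 : C (0 : ZMod 3) = 0 := map_zero C
  have c1 : C (1 : ZMod 3) = 1 := map_one C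
  have c2 : C (2 : ZMod 3) = 2 := map_ofNat C 2
  have ha : a = 0 ∨ a = 1 ∨ a = 2 := by revert a; decide
  have hb : b = 0 ∨ b = 1 ∨ b = 2 := by revert b; decide
  rcases ha with rfl | rfl | rfl <;> rcases hb with rfl | rfl | rfl <;> simp only [c0, c1, c2]
  · exact ⟨4, by simp, Or.inr ⟨(1) * X ^ 0, by linear_combination (0) * h3⟩⟩
  · exact ⟨6, by simp, Or.inl ⟨(2) * X ^ 0 + (1) * X ^ 2, by linear_combination ((-1) * X ^ 0 + (-1) * X ^ 2 + (-1) * X ^ 4) * h3⟩⟩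
  · exact ⟨6, by simp, Or.inr ⟨(1) * X ^ 0 + (1) * X ^ 2, by linear_combination ((-1) * X ^ 2 + (-1) * X ^ 4) * h3⟩⟩
  · exact ⟨9, by simp, Or.inr ⟨(1) * X ^ 0 + (2) * X ^ 1 + (1) * X ^ 2 + (1) * X ^ 3 + (2) * X ^ 4 + (1) * X ^ 5, by linear_combination ((-1) * X ^ 1 + (-1) * X ^ 2 + (-1) * X ^ 3 + (-2) * X ^ 4 + (-2) * X ^ 5 + (-1) * X ^ 6 + (-1) * X ^ 7 + (-1) * X ^ 8) * h3⟩⟩
  · exact ⟨5, by simp, Or.inl ⟨(2) * X ^ 0 + (1) * X ^ 1, by linear_combination ((-1) * X ^ 0 + (-1) * X ^ 1 + (-1) * X ^ 2 + (-1) * X ^ 3 + (-1) * X ^ 4) * h3⟩⟩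
  · exact ⟨12, by simp, Or.inl ⟨(2) * X ^ 0 + (1) * X ^ 1 + (1) * X ^ 2 + (1) * X ^ 3 + (2) * X ^ 5 + (2) * X ^ 6 + (2) * X ^ 7 + (1) * X ^ 8, by linear_combination ((-1) * X ^ 0 + (-1) * X ^ 1 + (-2) * X ^ 2 + (-2) * X ^ 3 + (-2) * X ^ 4 + (-2) * X ^ 5 + (-2) * X ^ 6 + (-3) * X ^ 7 + (-3) * X ^ 8 + (-3) * X ^ 9 + (-2) * X ^ 10 + (-1) * X ^ 11) * h3⟩⟩
  · exact ⟨9, by simp, Or.inl ⟨(2) * X ^ 0 + (2) * X ^ 1 + (2) * X ^ 2 + (1) * X ^ 3 + (1) * X ^ 4 + (1) * X ^ 5, by linear_combination ((-1) * X ^ 0 + (-2) * X ^ 1 + (-2) * X ^ 2 + (-3) * X ^ 3 + (-3) * X ^ 4 + (-3) * X ^ 5 + (-2) * X ^ 6 + (-1) * X ^ 7 + (-1) * X ^ 8) * h3⟩⟩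
  · exact ⟨5, by simp, Or.inr ⟨(1) * X ^ 0 + (1) * X ^ 1, by linear_combination ((-1) * X ^ 1 + (-1) * X ^ 2 + (-1) * X ^ 3 + (-1) * X ^ 4) * h3⟩⟩
  · exact ⟨12, by simp, Or.inl ⟨(2) * X ^ 0 + (2) * X ^ 1 + (1) * X ^ 2 + (2) * X ^ 3 + (1) * X ^ 5 + (2) * X ^ 6 + (1) * X ^ 7 + (1) * X ^ 8, by linear_combination ((-1) * X ^ 0 + (-2) * X ^ 1 + (-3) * X ^ 2 + (-4) * X ^ 3 + (-4) * X ^ 4 + (-3) * X ^ 5 + (-3) * X ^ 6 + (-3) * X ^ 7 + (-3) * X ^ 8 + (-3) * X ^ 9 + (-2) * X ^ 10 + (-1) * X ^ 11) * h3⟩⟩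

theorem charpoly_eq {g : Matrix (Fin 2 ⊕ Fin 2) (Fin 2 ⊕ Fin 2) (ZMod 3)}
    (hg : g ∈ symplecticGroup (Fin 2) (ZMod 3)) :
    ∃ a b : ZMod 3, g.charpoly = X ^ 4 + C a * X ^ 3 + C b * X ^ 2 + C a * X + 1 := by
  have hdet : g.det = 1 := SymplecticGroup.det_eq_one hg
  have hinv : g⁻¹.charpoly = g.charpoly := by
    rw [SymplecticGroup.inv_eq_symplectic_inv g hg, Matrix.mul_assoc, Matrix.charpoly_mul_comm,
      Matrix.mul_assoc, show J (Fin 2) (ZMod 3) * -J (Fin 2) (ZMod 3) = 1 by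
        rw [Matrix.mul_neg, J_squared, neg_neg], Matrix.mul_one, charpoly_transpose]
  have hrev : g.charpoly = g.charpoly.reverse := by
    conv_lhs => rw [← hinv, charpoly_inv g (g.isUnit_iff_isUnit_det.2 (by rw [hdet]; exact isUnit_one)),
      hdet, Ring.inverse_one, map_one, mul_one,
      show ((-1 : (ZMod 3)[X]) ^ Fintype.card (Fin 2 ⊕ Fin 2)) = 1 by simp; norm_num, one_mul]
    rw [reverse_charpoly]
  have hdeg : g.charpoly.natDegree = 4 := by rw [charpoly_natDegree_eq_dim]; rfl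
  have h4 : g.charpoly.coeff 4 = 1 := by
    have := g.charpoly_monic.coeff_natDegree
    rwa [hdeg] at this
  have hsym : ∀ i, g.charpoly.coeff i = g.charpoly.coeff (revAt 4 i) := fun i => by
    conv_lhs => rw [hrev, coeff_reverse, hdeg]
  have h0 : g.charpoly.coeff 0 = 1 := by
    rw [hsym 0, revAt_le (Nat.zero_le 4)]; exact h4
  have h1 : g.charpoly.coeff 1 = g.charpoly.coeff 3 := by
    rw [hsym 1, revAt_le (by norm_num)]
  refine ⟨g.charpoly.coeff 3, g.charpoly.coeff 2, ?_⟩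
  conv_lhs => rw [as_sum_range_C_mul_X_pow g.charpoly, hdeg]
  simp only [Finset.sum_range_succ, Finset.sum_range_zero, h0, h1, h4, map_one]
  ring

theorem exists_pow_eq {g : Matrix (Fin 2 ⊕ Fin 2) (Fin 2 ⊕ Fin 2) (ZMod 3)}
    (hg : g ∈ symplecticGroup (Fin 2) (ZMod 3)) :
    ∃ k ∈ ({4, 5, 6, 9, 12} : Set ℕ), g ^ k = 1 ∨ g ^ k = -1 := by
  obtain ⟨a, b, hab⟩ := charpoly_eq hg
  obtain ⟨k, hk, h⟩ := exists_dvd a b
  have hz := aeval_self_charpoly g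
  rw [hab] at hz
  refine ⟨k, hk, h.imp ?_ ?_⟩ <;> rintro ⟨q, hq⟩ <;>
    have h2 := congrArg (aeval g) hq <;> rw [map_mul, hz, zero_mul] at h2 <;>
    simp only [map_sub, map_add, map_pow, aeval_X, map_one] at h2
  · exact sub_eq_zero.1 h2
  · exact eq_neg_of_add_eq_zero_left h2

abbrev Sp4 := Matrix.symplecticGroup (Fin 2) (ZMod 3)

theorem mem_center_of_neg_one (g : Sp4) (h : g.1 = 1 ∨ g.1 = -1) :
    g ∈ Subgroup.center Sp4 := by
  rw [Subgroup.mem_center_iff]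
  intro x
  apply Subtype.ext
  rcases h with h | h <;> simp [h]

theorem orderOf_mem (x : Cfsg.PSp 2 (ZMod 3)) : orderOf x ∈ orders := by
  obtain ⟨g, rfl⟩ := QuotientGroup.mk'_surjective _ x
  obtain ⟨k, hk, h⟩ := exists_pow_eq g.2
  refine mem_orders_of_dvd hk (orderOf_dvd_of_pow_eq_one ?_)
  rw [← map_pow]
  refine (QuotientGroup.eq_one_iff _).2 (mem_center_of_neg_one _ ?_)
  simpa using h

/-- Block form of the indices. -/
def mat (a b c d : Matrix (Fin 2) (Fin 2) (ZMod 3)) :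
    Matrix (Fin 2 ⊕ Fin 2) (Fin 2 ⊕ Fin 2) (ZMod 3) := fromBlocks a b c d

def g9 : Sp4 := ⟨mat !![0, 2; 0, 0] !![2, 0; 1, 0] !![0, 0; 2, 0] !![0, 2; 0, 2],
  SymplecticGroup.mem_iff.2 (by decide +kernel)⟩

def g12 : Sp4 := ⟨mat !![0, 0; 0, 1] !![2, 0; 0, 1] !![1, 0; 0, 0] !![0, 0; 0, 1],
  SymplecticGroup.mem_iff.2 (by decide +kernel)⟩

def g5 : Sp4 := ⟨mat !![1, 1; 2, 0] !![0, 1; 0, 0] !![0, 2; 0, 2] !![0, 0; 2, 0],
  SymplecticGroup.mem_iff.2 (by decide +kernel)⟩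

theorem mk_pow_eq_one (g : Sp4) (k : ℕ)
    (h : g.1 ^ k = 1 ∨ g.1 ^ k = -1) :
    (QuotientGroup.mk g : Cfsg.PSp 2 (ZMod 3)) ^ k = 1 := by
  rw [← QuotientGroup.mk_pow, QuotientGroup.eq_one_iff]
  exact mem_center_of_neg_one _ (by simpa using h)

theorem mk_pow_ne_one (g w : Sp4) (k : ℕ)
    (h : g.1 ^ k * w.1 ≠ w.1 * g.1 ^ k) :
    (QuotientGroup.mk g : Cfsg.PSp 2 (ZMod 3)) ^ k ≠ 1 := by
  rw [← QuotientGroup.mk_pow, Ne, QuotientGroup.eq_one_iff, Subgroup.mem_center_iff]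
  intro hc
  exact h (by simpa using (congrArg Subtype.val (hc w)).symm)

theorem orderOf_g9 : orderOf (QuotientGroup.mk g9 : Cfsg.PSp 2 (ZMod 3)) = 9 := by
  haveI : Fact (Nat.Prime 3) := ⟨Nat.prime_three⟩
  exact orderOf_eq_prime_pow (p := 3) (n := 1) (mk_pow_ne_one g9 g12 _ (by decide +kernel))
    (mk_pow_eq_one g9 _ (by decide +kernel))

theorem orderOf_g5 : orderOf (QuotientGroup.mk g5 : Cfsg.PSp 2 (ZMod 3)) = 5 := by
  haveI : Fact (Nat.Prime 5) := ⟨by norm_num⟩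
  refine orderOf_eq_prime (mk_pow_eq_one g5 _ (by decide +kernel)) ?_
  simpa using mk_pow_ne_one g5 g9 1 (by decide +kernel)

theorem orderOf_g12 : orderOf (QuotientGroup.mk g12 : Cfsg.PSp 2 (ZMod 3)) = 12 := by
  set x : Cfsg.PSp 2 (ZMod 3) := QuotientGroup.mk g12
  have h := orderOf_dvd_of_pow_eq_one (mk_pow_eq_one g12 12 (by decide +kernel))
  have h4 : ¬ orderOf x ∣ 4 := fun e =>
    mk_pow_ne_one g12 g9 4 (by decide +kernel) (orderOf_dvd_iff_pow_eq_one.1 e)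
  have h6 : ¬ orderOf x ∣ 6 := fun e =>
    mk_pow_ne_one g12 g9 6 (by decide +kernel) (orderOf_dvd_iff_pow_eq_one.1 e)
  have hle := Nat.le_of_dvd (by norm_num) h
  interval_cases ho : orderOf x <;> simp_all

/-- Powers of elements of order `9`, `5` and `12` realize all the orders. -/
theorem range_eq_of {G : Type*} [Group G] (h : ∀ x : G, orderOf x ∈ orders) {a b c : G}
    (ha : orderOf a = 9) (hb : orderOf b = 5) (hc : orderOf c = 12) :
    Set.range (orderOf : G → ℕ) = orders := by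
  refine Set.Subset.antisymm (by rintro _ ⟨x, rfl⟩; exact h x) fun n hn => ?_
  have key : ∀ m, m ∈ ({2, 3, 4, 6} : Set ℕ) → orderOf (c ^ (12 / m)) = m := by
    intro m hm
    simp only [Set.mem_insert_iff, Set.mem_singleton_iff] at hm
    rw [orderOf_pow' c (by rcases hm with rfl | rfl | rfl | rfl <;> decide), hc]
    rcases hm with rfl | rfl | rfl | rfl <;> rfl
  simp only [orders, Set.mem_insert_iff, Set.mem_singleton_iff] at hn
  rcases hn with rfl | rfl | rfl | rfl | rfl | rfl | rfl | rfl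
  · exact ⟨1, orderOf_one⟩
  · exact ⟨_, key 2 (by simp)⟩
  · exact ⟨_, key 3 (by simp)⟩
  · exact ⟨_, key 4 (by simp)⟩
  · exact ⟨_, hb⟩
  · exact ⟨_, key 6 (by simp)⟩
  · exact ⟨_, ha⟩
  · exact ⟨_, hc⟩

theorem range_orderOf :
    Set.range (orderOf : Cfsg.PSp 2 (ZMod 3) → ℕ) = orders :=
  range_eq_of orderOf_mem orderOf_g9 orderOf_g5 orderOf_g12

/-- The spectrum over any field with three elements. -/
theorem range_orderOf_of_card {F : Type*} [Field F] [Fintype F] (hF : Fintype.card F = 3) :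
    Set.range (orderOf : Cfsg.PSp 2 F → ℕ) = orders := by
  haveI : Fact (Nat.Prime 3) := ⟨Nat.prime_three⟩
  let e : ZMod 3 ≃+* F := ZMod.ringEquivOfPrime F Nat.prime_three hF
  let E : Matrix (Fin 2 ⊕ Fin 2) (Fin 2 ⊕ Fin 2) (ZMod 3) ≃+* Matrix (Fin 2 ⊕ Fin 2) (Fin 2 ⊕ Fin 2) F :=
    e.mapMatrix
  let φ : Matrix.symplecticGroup (Fin 2) (ZMod 3) ≃* Matrix.symplecticGroup (Fin 2) F :=
    { toFun := fun g => ⟨E g, SymplecticGroup.map_mem g.2 e.toRingHom⟩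
      invFun := fun g => ⟨E.symm g, SymplecticGroup.map_mem g.2 e.symm.toRingHom⟩
      left_inv := fun g => Subtype.ext (E.symm_apply_apply _)
      right_inv := fun g => Subtype.ext (E.apply_symm_apply _)
      map_mul' := fun g h => Subtype.ext (map_mul E _ _) }
  have hc : (Subgroup.center (Matrix.symplecticGroup (Fin 2) (ZMod 3))).map φ.toMonoidHom =
      Subgroup.center (Matrix.symplecticGroup (Fin 2) F) := by
    ext x
    simp only [Subgroup.mem_map, Subgroup.mem_center_iff, MulEquiv.coe_toMonoidHom]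
    constructor
    · rintro ⟨y, hy, rfl⟩ z
      obtain ⟨w, rfl⟩ := φ.surjective z
      rw [← map_mul, hy, map_mul]
    · intro hx
      refine ⟨φ.symm x, fun z => φ.injective ?_, φ.apply_symm_apply x⟩
      rw [map_mul, map_mul, φ.apply_symm_apply, hx]
  let ψ : Cfsg.PSp 2 (ZMod 3) ≃* Cfsg.PSp 2 F := QuotientGroup.congr _ _ φ hc
  rw [← range_orderOf]
  ext n
  constructor
  · rintro ⟨x, rfl⟩
    exact ⟨ψ.symm x, (ψ.symm.orderOf_eq x)⟩
  · rintro ⟨x, rfl⟩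
    exact ⟨ψ x, ψ.orderOf_eq x⟩

end CfsgLib.Spectrum.PSpFourThree
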