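import Cfsg.Agent.Lib.Spectrum.PSpFourThreeOrders
import Mathlib.FieldTheory.Finite.GaloisField
import Mathlib.GroupTheory.SemidirectProduct
import Mathlib.GroupTheory.Solvable
import Mathlib.GroupTheory.Nilpotent

/-!
# A solvable group with element orders `1, 2, 3, 4, 5, 6, 9, 12`

A `3`-group `U` of class three built on the field `K` with `81` elements (two paths of length three
in a unitriangular group, sharing their end points, the second one with a sign), extended by the
fifth roots of unity acting without fixed points and the Frobenius automorphism of `K`. The cubes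
in `U` are `z ^ 4 * w ^ 9 - z ^ 12 * w`, which vanishes on the elements fixed by an involution.
-/

set_option autoImplicit false
set_option linter.all false

namespace CfsgLib.Spectrum.PSpFourThree

/-- The coordinates of the `3`-group. -/
@[ext]
structure U (K : Type) : Type where
  z : K
  w : K
  a : K
  a' : K
  b : K
  b' : K
  c : K

variable {K : Type} [Field K] [CharP K 3]

instance : Mul (U K) where
  mul x y := ⟨x.z + y.z, x.w + y.w, x.a + y.a + x.z * y.z ^ 3, x.a' + y.a' + x.z ^ 9 * y.z ^ 3,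
    x.b + y.b + x.z ^ 3 * y.w ^ 9, x.b' + y.b' + x.z ^ 3 * y.w,
    x.c + y.c + x.z * y.b - x.z ^ 9 * y.b' + x.a * y.w ^ 9 - x.a' * y.w⟩

instance : One (U K) where one := ⟨0, 0, 0, 0, 0, 0, 0⟩

instance : Inv (U K) where
  inv x := ⟨-x.z, -x.w, -x.a + x.z ^ 4, -x.a' + x.z ^ 12, -x.b + x.z ^ 3 * x.w ^ 9,
    -x.b' + x.z ^ 3 * x.w,
    -x.c + x.z * x.b - x.z ^ 9 * x.b' + x.a * x.w ^ 9 - x.a' * x.w - x.z ^ 4 * x.w ^ 9
      + x.z ^ 12 * x.w⟩

section Proj

variable (x y : U K)

@[simp] theorem mul_z : (x * y).z = x.z + y.z := rfl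
@[simp] theorem mul_w : (x * y).w = x.w + y.w := rfl
@[simp] theorem mul_a : (x * y).a = x.a + y.a + x.z * y.z ^ 3 := rfl
@[simp] theorem mul_a' : (x * y).a' = x.a' + y.a' + x.z ^ 9 * y.z ^ 3 := rfl
@[simp] theorem mul_b : (x * y).b = x.b + y.b + x.z ^ 3 * y.w ^ 9 := rfl
@[simp] theorem mul_b' : (x * y).b' = x.b' + y.b' + x.z ^ 3 * y.w := rfl
@[simp] theorem mul_c : (x * y).c =
    x.c + y.c + x.z * y.b - x.z ^ 9 * y.b' + x.a * y.w ^ 9 - x.a' * y.w := rfl
@[simp] theorem one_z : (1 : U K).z = 0 := rfl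
@[simp] theorem one_w : (1 : U K).w = 0 := rfl
@[simp] theorem one_a : (1 : U K).a = 0 := rfl
@[simp] theorem one_a' : (1 : U K).a' = 0 := rfl
@[simp] theorem one_b : (1 : U K).b = 0 := rfl
@[simp] theorem one_b' : (1 : U K).b' = 0 := rfl
@[simp] theorem one_c : (1 : U K).c = 0 := rfl
@[simp] theorem inv_z : (x⁻¹).z = -x.z := rfl
@[simp] theorem inv_w : (x⁻¹).w = -x.w := rfl

theorem add_cube (s t : K) : (s + t) ^ 3 = s ^ 3 + t ^ 3 := by
  haveI : Fact (Nat.Prime 3) := ⟨Nat.prime_three⟩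
  exact add_pow_char s t 3

theorem add_nine (s t : K) : (s + t) ^ 9 = s ^ 9 + t ^ 9 := by
  rw [show 9 = 3 * 3 from rfl, pow_mul, pow_mul, pow_mul, add_cube, add_cube]

theorem three_eq_zero : (3 : K) = 0 := by
  exact_mod_cast CharP.cast_eq_zero K 3

end Proj

instance : Group (U K) where
  mul_assoc x y t := by
    ext <;> simp only [mul_z, mul_w, mul_a, mul_a', mul_b, mul_b', mul_c, add_cube, add_nine] <;> ring
  one_mul x := by ext <;> simp
  mul_one x := by ext <;> simp
  inv_mul_cancel x := by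
    ext <;> simp only [mul_z, mul_w, mul_a, mul_a', mul_b, mul_b', mul_c, one_z, one_w, one_a, one_a',
      one_b, one_b', one_c] <;> simp only [show ∀ t : U K, t⁻¹ = ⟨-t.z, -t.w, -t.a + t.z ^ 4,
        -t.a' + t.z ^ 12, -t.b + t.z ^ 3 * t.w ^ 9, -t.b' + t.z ^ 3 * t.w,
        -t.c + t.z * t.b - t.z ^ 9 * t.b' + t.a * t.w ^ 9 - t.a' * t.w - t.z ^ 4 * t.w ^ 9
          + t.z ^ 12 * t.w⟩ from fun t => rfl] <;> ring

instance [Finite K] : Finite (U K) :=
  Finite.of_injective (fun x : U K => (x.z, x.w, x.a, x.a', x.b, x.b', x.c)) fun x y e => by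
    simp only [Prod.mk.injEq] at e
    ext <;> tauto

/-- The cubes. -/
theorem cube_eq (x : U K) :
    x ^ 3 = ⟨0, 0, 0, 0, 0, 0, x.z ^ 4 * x.w ^ 9 - x.z ^ 12 * x.w⟩ := by
  have h3 := three_eq_zero (K := K)
  rw [pow_succ, pow_two]
  ext <;> simp only [mul_z, mul_w, mul_a, mul_a', mul_b, mul_b', mul_c, add_cube, add_nine]
  · linear_combination x.z * h3
  · linear_combination x.w * h3
  · linear_combination (x.a + x.z ^ 4) * h3
  · linear_combination (x.a' + x.z ^ 12) * h3
  · linear_combination (x.b + x.z ^ 3 * x.w ^ 9) * h3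
  · linear_combination (x.b' + x.z ^ 3 * x.w) * h3
  · linear_combination (x.c + x.z * x.b - x.z ^ 9 * x.b' + x.a * x.w ^ 9 - x.a' * x.w) * h3

theorem pow_nine (x : U K) : x ^ 9 = 1 := by
  rw [show 9 = 3 * 3 from rfl, pow_mul, cube_eq, cube_eq]
  ext <;> simp

theorem isPGroup : IsPGroup 3 (U K) := fun x => ⟨2, by rw [show 3 ^ 2 = 9 from rfl]; exact pow_nine x⟩

/-- The action of a fifth root of unity. -/
def scale : rootsOfUnity 5 K →* MulAut (U K) where
  toFun ζ :=
    { toFun := fun x => ⟨((ζ : Kˣ) : K) * x.z, ((ζ : Kˣ) : K) * x.w, ((ζ : Kˣ) : K) ^ 4 * x.a,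
        ((ζ : Kˣ) : K) ^ 12 * x.a', ((ζ : Kˣ) : K) ^ 12 * x.b, ((ζ : Kˣ) : K) ^ 4 * x.b',
        ((ζ : Kˣ) : K) ^ 13 * x.c⟩
      invFun := fun x => ⟨(((ζ⁻¹ : rootsOfUnity 5 K) : Kˣ) : K) * x.z,
        (((ζ⁻¹ : rootsOfUnity 5 K) : Kˣ) : K) * x.w, (((ζ⁻¹ : rootsOfUnity 5 K) : Kˣ) : K) ^ 4 * x.a,
        (((ζ⁻¹ : rootsOfUnity 5 K) : Kˣ) : K) ^ 12 * x.a', (((ζ⁻¹ : rootsOfUnity 5 K) : Kˣ) : K) ^ 12 * x.b,
        (((ζ⁻¹ : rootsOfUnity 5 K) : Kˣ) : K) ^ 4 * x.b', (((ζ⁻¹ : rootsOfUnity 5 K) : Kˣ) : K) ^ 13 * x.c⟩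
      left_inv := fun x => by ext <;> simp [← mul_assoc, ← mul_pow]
      right_inv := fun x => by ext <;> simp [← mul_assoc, ← mul_pow]
      map_mul' := fun x y => by
        ext <;> simp only [mul_z, mul_w, mul_a, mul_a', mul_b, mul_b', mul_c] <;> ring }
  map_one' := by
    refine MulEquiv.ext fun x => ?_
    ext <;> simp
  map_mul' ζ η := by
    refine MulEquiv.ext fun x => ?_
    ext <;> simp [mul_pow, mul_assoc]

theorem scale_apply (ζ : rootsOfUnity 5 K) (x : U K) :
    scale ζ x = ⟨((ζ : Kˣ) : K) * x.z, ((ζ : Kˣ) : K) * x.w, ((ζ : Kˣ) : K) ^ 4 * x.a,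
      ((ζ : Kˣ) : K) ^ 12 * x.a', ((ζ : Kˣ) : K) ^ 12 * x.b, ((ζ : Kˣ) : K) ^ 4 * x.b',
      ((ζ : Kˣ) : K) ^ 13 * x.c⟩ := rfl

theorem root_pow_five (ζ : rootsOfUnity 5 K) : ((ζ : Kˣ) : K) ^ 5 = 1 := by
  rw [← Units.val_pow_eq_pow_val, (mem_rootsOfUnity _ _).1 ζ.2, Units.val_one]

/-- A nontrivial root of unity fixes only the identity. -/
theorem scale_fixed {ζ : rootsOfUnity 5 K} (hζ : ζ ≠ 1) {x : U K} (h : scale ζ x = x) : x = 1 := by
  set s : K := ((ζ : Kˣ) : K) with hs
  have hs1 : s ≠ 1 := fun e => hζ (Subtype.ext (Units.ext e))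
  have h5 : s ^ 5 = 1 := root_pow_five ζ
  have hk : ∀ k : ℕ, k.Coprime 5 → s ^ k ≠ 1 := by
    intro k hk e
    refine hs1 (orderOf_eq_one_iff.1 ?_)
    exact Nat.eq_one_of_dvd_coprimes hk (orderOf_dvd_of_pow_eq_one e) (orderOf_dvd_of_pow_eq_one h5)
  have hz : ∀ t u : K, u ≠ 1 → u * t = t → t = 0 := fun t u hu e =>
    (mul_eq_zero.1 (show (u - 1) * t = 0 by rw [sub_mul, one_mul, e, sub_self])).resolve_left
      (sub_ne_zero.2 hu)
  rw [scale_apply] at h
  ext
  · exact hz _ _ hs1 (congrArg U.z h)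
  · exact hz _ _ hs1 (congrArg U.w h)
  · exact hz _ _ (hk 4 (by decide)) (congrArg U.a h)
  · exact hz _ _ (hk 12 (by decide)) (congrArg U.a' h)
  · exact hz _ _ (hk 12 (by decide)) (congrArg U.b h)
  · exact hz _ _ (hk 4 (by decide)) (congrArg U.b' h)
  · exact hz _ _ (hk 13 (by decide)) (congrArg U.c h)

variable [Fintype K] (hK : Fintype.card K = 81)

include hK in
theorem pow_eightyone (t : K) : t ^ 81 = t := by rw [← hK]; exact FiniteField.pow_card t

/-- The Frobenius automorphism. -/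
noncomputable def frob : MulAut (U K) :=
  MulEquiv.ofBijective
    ({
      toFun := fun x => (⟨x.z ^ 3, x.w ^ 3, x.a ^ 3, x.a' ^ 3, x.b ^ 3, x.b' ^ 3, x.c ^ 3⟩ : U K)
      map_one' := by ext <;> simp
      map_mul' := fun x y => by
        haveI : Fact (Nat.Prime 3) := ⟨Nat.prime_three⟩
        ext <;> simp only [mul_z, mul_w, mul_a, mul_a', mul_b, mul_b', mul_c, add_cube, sub_pow_char] <;>
          ring } : U K →* U K)
    (Finite.injective_iff_bijective.1 fun x y e => by
      haveI : Fact (Nat.Prime 3) := ⟨Nat.prime_three⟩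
      have hinj : Function.Injective fun t : K => t ^ 3 := (frobenius K 3).injective
      ext
      · exact hinj (congrArg U.z e)
      · exact hinj (congrArg U.w e)
      · exact hinj (congrArg U.a e)
      · exact hinj (congrArg U.a' e)
      · exact hinj (congrArg U.b e)
      · exact hinj (congrArg U.b' e)
      · exact hinj (congrArg U.c e))

theorem frob_apply (x : U K) :
    frob x = ⟨x.z ^ 3, x.w ^ 3, x.a ^ 3, x.a' ^ 3, x.b ^ 3, x.b' ^ 3, x.c ^ 3⟩ := rfl

theorem frob_pow_apply (i : ℕ) (x : U K) :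
    (frob ^ i) x = ⟨x.z ^ 3 ^ i, x.w ^ 3 ^ i, x.a ^ 3 ^ i, x.a' ^ 3 ^ i, x.b ^ 3 ^ i, x.b' ^ 3 ^ i,
      x.c ^ 3 ^ i⟩ := by
  induction i with
  | zero => simp
  | succ i ih => rw [pow_succ', MulAut.mul_apply, ih, frob_apply]; ext <;> simp only [pow_succ 3 i, pow_mul]

include hK in
theorem frob_pow_four : frob ^ 4 = (1 : MulAut (U K)) := by
  refine MulEquiv.ext fun x => ?_
  rw [frob_pow_apply]
  ext <;> simp [pow_eightyone hK]

theorem frob_mul_scale (ζ : rootsOfUnity 5 K) : frob * scale ζ = scale (ζ ^ 3) * frob := by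
  refine MulEquiv.ext fun x => ?_
  simp only [MulAut.mul_apply, frob_apply, scale_apply]
  ext <;> simp [mul_pow] <;> left <;> ring

theorem frob_pow_mul_scale (i : ℕ) (ζ : rootsOfUnity 5 K) :
    frob ^ i * scale ζ = scale (ζ ^ 3 ^ i) * frob ^ i := by
  induction i generalizing ζ with
  | zero => simp
  | succ i ih =>
    rw [pow_succ, mul_assoc, frob_mul_scale, ← mul_assoc, ih, mul_assoc, ← pow_mul, ← pow_succ']

/-- The acting group. -/
noncomputable def actor : Subgroup (MulAut (U K)) :=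
  Subgroup.closure {h | ∃ (ζ : rootsOfUnity 5 K) (i : ℕ), h = scale ζ * frob ^ i}

include hK in
theorem mem_actor {h : MulAut (U K)} (hh : h ∈ actor (K := K)) :
    ∃ (ζ : rootsOfUnity 5 K) (i : ℕ), h = scale ζ * frob ^ i := by
  have hmul : ∀ (ζ η : rootsOfUnity 5 K) (i j : ℕ),
      scale ζ * frob ^ i * (scale η * frob ^ j) = scale (ζ * η ^ 3 ^ i) * frob ^ (i + j) := by
    intro ζ η i j
    rw [mul_assoc, ← mul_assoc (frob ^ i), frob_pow_mul_scale, mul_assoc, ← pow_add, ← mul_assoc,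
      ← map_mul]
  refine Subgroup.closure_induction (fun x hx => hx) ⟨1, 0, by simp⟩ ?_ ?_ hh
  · rintro x y - - ⟨ζ, i, rfl⟩ ⟨η, j, rfl⟩
    exact ⟨_, _, hmul ζ η i j⟩
  · rintro x - ⟨ζ, i, rfl⟩
    refine ⟨(ζ⁻¹) ^ 3 ^ (3 * i), 3 * i, inv_eq_of_mul_eq_one_left ?_⟩
    rw [hmul, show 3 * i + i = 4 * i by ring, pow_mul frob, frob_pow_four hK, one_pow, mul_one,
      ← mul_pow, inv_mul_cancel, one_pow, map_one]

theorem actor_mem (ζ : rootsOfUnity 5 K) (i : ℕ) : scale ζ * frob ^ i ∈ actor (K := K) :=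
  Subgroup.subset_closure ⟨ζ, i, rfl⟩

/-- The group. -/
abbrev G (K : Type) [Field K] [CharP K 3] [Fintype K] : Type :=
  U K ⋊[(actor (K := K)).subtype] actor (K := K)

include hK in
theorem actor_pow_four {ζ : rootsOfUnity 5 K} {i : ℕ} (hi : Even i) :
    ∃ η : rootsOfUnity 5 K, (scale η * frob ^ i : MulAut (U K)) = scale ζ * frob ^ i ∧
      (scale ζ * frob ^ i) * (scale ζ * frob ^ i) = scale (ζ ^ (1 + 3 ^ i)) := by
  refine ⟨ζ, rfl, ?_⟩
  obtain ⟨j, rfl⟩ := hi
  rw [mul_assoc, ← mul_assoc (frob ^ (j + j)), frob_pow_mul_scale, mul_assoc, ← pow_add,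
    show j + j + (j + j) = 4 * j by ring, pow_mul frob, frob_pow_four hK, one_pow, mul_one, ← map_mul,
    pow_add ζ 1, pow_one]

theorem pow_five_eq_one (ζ : rootsOfUnity 5 K) : ζ ^ 5 = 1 :=
  Subtype.ext ((mem_rootsOfUnity _ _).1 ζ.2)

theorem root_pow_mod (ζ : rootsOfUnity 5 K) (k : ℕ) : ζ ^ k = ζ ^ (k % 5) :=
  pow_eq_pow_mod k (pow_five_eq_one ζ)

include hK in
/-- The elements outside `U` whose part in the acting group is an involution have order dividing `6`. -/
theorem pow_six {g : G K} {ζ : rootsOfUnity 5 K}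
    (hg : (g.right : MulAut (U K)) = scale ζ * frob ^ 2) : g ^ 6 = 1 := by
  obtain ⟨x, h⟩ := g
  simp only at hg
  have hsq : (h : MulAut (U K)) * h = 1 := by
    rw [hg]
    obtain ⟨-, -, e⟩ := actor_pow_four hK (ζ := ζ) (i := 2) (by decide)
    rw [e, show 1 + 3 ^ 2 = 5 * 2 from rfl, pow_mul, pow_five_eq_one, one_pow, map_one]
  have hg2 : (⟨x, h⟩ : G K) ^ 2 = SemidirectProduct.inl (x * (h : MulAut (U K)) x) := by
    rw [pow_two]
    ext1
    · simp
    · simp only [SemidirectProduct.mul_right, SemidirectProduct.right_inl]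
      exact Subtype.ext hsq
  rw [show 6 = 2 * 3 from rfl, pow_mul, hg2, ← map_pow, cube_eq]
  set s : K := ((ζ : Kˣ) : K) with hs
  have h5 : s ^ 5 = 1 := root_pow_five ζ
  have hy : (h : MulAut (U K)) x = scale ζ ((frob ^ 2) x) := by rw [hg]; rfl
  have hcoord : ∀ t : K, (t + s * t ^ 9) ^ 9 = s ^ 4 * (t + s * t ^ 9) := by
    intro t
    rw [add_nine, mul_pow, ← pow_mul, pow_eightyone hK]
    linear_combination (s ^ 4 * t - t ^ 9) * h5
  have hzero : (x * (h : MulAut (U K)) x).z ^ 4 * (x * (h : MulAut (U K)) x).w ^ 9 -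
      (x * (h : MulAut (U K)) x).z ^ 12 * (x * (h : MulAut (U K)) x).w = 0 := by
    rw [hy, frob_pow_apply, scale_apply]
    simp only [mul_z, mul_w]
    set Z := x.z + s * x.z ^ 3 ^ 2 with hZ
    set W := x.w + s * x.w ^ 3 ^ 2 with hW
    have e1 : Z ^ 9 = s ^ 4 * Z := hcoord x.z
    have e2 : W ^ 9 = s ^ 4 * W := hcoord x.w
    calc Z ^ 4 * W ^ 9 - Z ^ 12 * W = Z ^ 4 * W ^ 9 - Z ^ 9 * Z ^ 3 * W := by ring
      _ = 0 := by rw [e1, e2]; ring
  rw [hzero]
  exact map_one SemidirectProduct.inl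

include hK in
/-- The orders of the elements. -/
theorem orderOf_mem_orders (g : G K) : orderOf g ∈ orders := by
  obtain ⟨ζ, i, hi⟩ := mem_actor hK g.right.2
  have hi4 : (g.right : MulAut (U K)) = scale ζ * frob ^ (i % 4) := by
    rw [hi, ← pow_eq_pow_mod i (frob_pow_four hK)]
  have h4 : i % 4 = 0 ∨ i % 4 = 1 ∨ i % 4 = 2 ∨ i % 4 = 3 := by omega
  have h12 : (∃ j, (i % 4 = 1 ∧ j = 1) ∨ (i % 4 = 3 ∧ j = 3)) → g ^ 12 = 1 := by
    rintro ⟨j, hj⟩
    have hj' : i % 4 = j := by omega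
    have h2 : ((g ^ 2).right : MulAut (U K)) = scale (ζ ^ (1 + 3 ^ j)) * frob ^ 2 := by
      rw [pow_two, SemidirectProduct.mul_right, Subgroup.coe_mul, hi4, hj', mul_assoc,
        ← mul_assoc (frob ^ j), frob_pow_mul_scale, mul_assoc, ← pow_add, ← mul_assoc, ← map_mul,
        pow_add ζ 1, pow_one]
      rcases hj with ⟨-, rfl⟩ | ⟨-, rfl⟩
      · rfl
      · rw [show 3 + 3 = 4 + 2 from rfl, pow_add, frob_pow_four hK, one_mul]
    rw [show 12 = 2 * 6 from rfl, pow_mul]
    exact pow_six hK h2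
  rcases h4 with h0 | h1 | h2 | h3
  · rw [h0, pow_zero, mul_one] at hi4
    by_cases hζ : ζ = 1
    · have hr : g.right = 1 := Subtype.ext (by rw [hi4, hζ, map_one]; rfl)
      have hg : g = SemidirectProduct.inl g.left := by ext1 <;> simp [hr]
      have h9 : g ^ 9 = 1 := by rw [hg, ← map_pow, pow_nine, map_one]
      exact mem_orders_of_dvd (k := 9) (by simp) (orderOf_dvd_of_pow_eq_one h9)
    · -- conjugate to its part in the acting group
      have hinj : Function.Injective fun x : U K => x⁻¹ * scale ζ x := by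
        intro x y e
        have e' : x⁻¹ * scale ζ x = y⁻¹ * scale ζ y := e
        have : scale ζ (x * y⁻¹) = x * y⁻¹ := by
          rw [map_mul, map_inv]
          calc scale ζ x * (scale ζ y)⁻¹ = x * (x⁻¹ * scale ζ x) * (scale ζ y)⁻¹ := by group
            _ = _ := by rw [e']; group
        exact mul_inv_eq_one.1 (scale_fixed hζ this)
      obtain ⟨x, hx⟩ := (Finite.injective_iff_surjective.1 hinj) g.left
      have hg : g = SemidirectProduct.inl x⁻¹ * SemidirectProduct.inr g.right *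
          (SemidirectProduct.inl x⁻¹)⁻¹ := by
        ext1
        · simp [hi4, ← hx]
        · simp
      have h5 : g ^ 5 = 1 := by
        rw [hg, conj_pow, ← map_pow,
          show g.right ^ 5 = 1 from Subtype.ext (by
            rw [SubgroupClass.coe_pow, hi4, ← map_pow, pow_five_eq_one, map_one]; rfl),
          map_one, mul_one, mul_inv_cancel]
      exact mem_orders_of_dvd (k := 5) (by simp) (orderOf_dvd_of_pow_eq_one h5)
  · exact mem_orders_of_dvd (k := 12) (by simp) (orderOf_dvd_of_pow_eq_one (h12 ⟨1, Or.inl ⟨h1, rfl⟩⟩))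
  · exact mem_orders_of_dvd (k := 6) (by simp)
      (orderOf_dvd_of_pow_eq_one (pow_six hK (by rw [hi4, h2])))
  · exact mem_orders_of_dvd (k := 12) (by simp) (orderOf_dvd_of_pow_eq_one (h12 ⟨3, Or.inr ⟨h3, rfl⟩⟩))

include hK in
theorem exists_order_nine : ∃ g : G K, orderOf g = 9 := by
  classical
  haveI : Fact (Nat.Prime 3) := ⟨Nat.prime_three⟩
  obtain ⟨t, ht⟩ : ∃ t : K, t ^ 9 ≠ t := by
    by_contra hcon
    push Not at hcon
    let P : Polynomial K := Polynomial.X ^ 9 - Polynomial.X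
    have hP : P ≠ 0 := FiniteField.X_pow_card_sub_X_ne_zero K (by norm_num)
    have h1 : (Finset.univ : Finset K) ⊆ P.roots.toFinset := fun t _ => by
      rw [Multiset.mem_toFinset, Polynomial.mem_roots hP]
      simp [P, hcon t]
    have h2 := (Finset.card_le_card h1).trans ((Multiset.toFinset_card_le _).trans (Polynomial.card_roots' P))
    rw [Finset.card_univ, hK, FiniteField.X_pow_card_sub_X_natDegree_eq K (by norm_num)] at h2
    omega
  refine ⟨SemidirectProduct.inl ⟨1, t, 0, 0, 0, 0, 0⟩, ?_⟩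
  rw [orderOf_injective _ SemidirectProduct.inl_injective]
  refine orderOf_eq_prime_pow (p := 3) (n := 1) ?_ (pow_nine _)
  intro e
  rw [show 3 ^ 1 = 3 from rfl, cube_eq] at e
  have := congrArg U.c e
  simp [sub_eq_zero] at this
  exact ht this

include hK in
theorem exists_order_five : ∃ g : G K, orderOf g = 5 := by
  haveI : Fact (Nat.Prime 5) := ⟨by norm_num⟩
  obtain ⟨u, hu⟩ := exists_prime_orderOf_dvd_card' (G := Kˣ) 5
    (by rw [Nat.card_units, Nat.card_eq_fintype_card, hK]; norm_num)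
  set ζ : rootsOfUnity 5 K := ⟨u, (mem_rootsOfUnity _ _).2 (hu ▸ pow_orderOf_eq_one u)⟩
  refine ⟨SemidirectProduct.inr ⟨scale ζ * frob ^ 0, actor_mem ζ 0⟩, orderOf_eq_prime ?_ ?_⟩
  · rw [← map_pow]
    convert map_one SemidirectProduct.inr
    refine Subtype.ext ?_
    simp [SubgroupClass.coe_pow, ← map_pow, pow_five_eq_one]
  · intro e
    have h1 : scale ζ * frob ^ 0 = (1 : MulAut (U K)) :=
      congrArg (fun g : G K => ((g.right : actor (K := K)) : MulAut (U K))) e
    rw [pow_zero, mul_one] at h1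
    have h2 : scale ζ (⟨1, 0, 0, 0, 0, 0, 0⟩ : U K) = ⟨1, 0, 0, 0, 0, 0, 0⟩ := by rw [h1]; rfl
    have h3 := congrArg U.z h2
    simp [scale_apply, ζ] at h3
    rw [h3, orderOf_one] at hu
    norm_num at hu

include hK in
theorem exists_order_twelve : ∃ g : G K, orderOf g = 12 := by
  classical
  set h : actor (K := K) := ⟨scale 1 * frob ^ 1, actor_mem 1 1⟩ with hh
  have hh' : (h : MulAut (U K)) = frob := by simp [hh]
  set x : U K := ⟨1, 0, 0, 0, 0, 0, 0⟩
  set g : G K := ⟨x, h⟩ with hg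
  refine ⟨g, ?_⟩
  have hmem := orderOf_mem_orders hK g
  have hdvd4 : 4 ∣ orderOf g := by
    have h1 : orderOf h ∣ orderOf g := orderOf_map_dvd SemidirectProduct.rightHom g
    have h2 : orderOf h = 4 := by
      rw [← Subgroup.orderOf_coe, hh']
      haveI : Fact (Nat.Prime 2) := ⟨Nat.prime_two⟩
      refine orderOf_eq_prime_pow (p := 2) (n := 1) ?_ (frob_pow_four hK)
      intro e
      obtain ⟨t, ht⟩ : ∃ t : K, t ^ 9 ≠ t := by
        by_contra hcon
        push Not at hcon
        let P : Polynomial K := Polynomial.X ^ 9 - Polynomial.X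
        have hP : P ≠ 0 := FiniteField.X_pow_card_sub_X_ne_zero K (by norm_num)
        have h1 : (Finset.univ : Finset K) ⊆ P.roots.toFinset := fun t _ => by
          rw [Multiset.mem_toFinset, Polynomial.mem_roots hP]
          simp [P, hcon t]
        have h2 := (Finset.card_le_card h1).trans
          ((Multiset.toFinset_card_le _).trans (Polynomial.card_roots' P))
        rw [Finset.card_univ, hK, FiniteField.X_pow_card_sub_X_natDegree_eq K (by norm_num)] at h2
        omega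
      have h3 := congrArg (fun f : MulAut (U K) => (f ⟨t, 0, 0, 0, 0, 0, 0⟩).z) e
      simp only [show 2 ^ 1 = 2 from rfl, frob_pow_apply, MulAut.one_apply] at h3
      exact ht h3
    rwa [h2] at h1
  have hne : g ^ 4 ≠ 1 := by
    intro e
    have h4 : (g ^ 4).left = x * frob x * (frob ^ 2) x * (frob ^ 3) x := by
      simp [pow_succ, hg, hh', mul_assoc]
    rw [e] at h4
    have h5 := congrArg U.z h4
    simp [x, frob_pow_apply, frob_apply] at h5
    have h3 := three_eq_zero (K := K)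
    exact one_ne_zero (α := K) (by linear_combination -h5 - h3)
  simp only [orders, Set.mem_insert_iff, Set.mem_singleton_iff] at hmem
  rcases hmem with e | e | e | e | e | e | e | e
  all_goals first
    | exact e
    | (rw [e] at hdvd4; omega)
    | exact absurd (e ▸ pow_orderOf_eq_one g) hne

include hK in
theorem range_orderOf_group : Set.range (orderOf : G K → ℕ) = orders := by
  obtain ⟨a, ha⟩ := exists_order_nine hK
  obtain ⟨b, hb⟩ := exists_order_five hK
  obtain ⟨c, hc⟩ := exists_order_twelve hK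
  exact range_eq_of (orderOf_mem_orders hK) ha hb hc

include hK in
theorem isSolvable_group : Group.IsSolvable (G K) := by
  haveI : Fact (Nat.Prime 3) := ⟨Nat.prime_three⟩
  haveI : Group.IsNilpotent (U K) := isPGroup.isNilpotent
  -- the acting group
  haveI : Group.IsSolvable (actor (K := K)) := by
    set A : Subgroup (actor (K := K)) := (scale (K := K)).range.subgroupOf (actor (K := K))
    haveI hA : A.Normal := ⟨fun n hn g => by
      obtain ⟨η, hη⟩ := MonoidHom.mem_range.1 (Subgroup.mem_subgroupOf.1 hn)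
      obtain ⟨ζ, i, hi⟩ := mem_actor hK g.2
      rw [Subgroup.mem_subgroupOf]
      refine MonoidHom.mem_range.2 ⟨ζ * η ^ 3 ^ i * ζ⁻¹, ?_⟩
      push_cast
      rw [hi, ← hη, mul_inv_rev, mul_assoc (scale ζ), frob_pow_mul_scale, map_mul, map_mul, map_inv]
      group⟩
    haveI : Group.IsSolvable A := Group.isSolvable_of_comm fun a b => by
      obtain ⟨η, hη⟩ := MonoidHom.mem_range.1 (Subgroup.mem_subgroupOf.1 a.2)
      obtain ⟨θ, hθ⟩ := MonoidHom.mem_range.1 (Subgroup.mem_subgroupOf.1 b.2)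
      refine Subtype.ext (Subtype.ext ?_)
      push_cast
      rw [← hη, ← hθ, ← map_mul, ← map_mul, mul_comm]
    haveI : Group.IsSolvable (actor (K := K) ⧸ A) := by
      set f : actor (K := K) := ⟨scale 1 * frob ^ 1, actor_mem 1 1⟩
      have hgen : ∀ q : actor (K := K) ⧸ A, ∃ i : ℕ, q = (QuotientGroup.mk f) ^ i := by
        intro q
        obtain ⟨g, rfl⟩ := QuotientGroup.mk'_surjective A q
        obtain ⟨ζ, i, hi⟩ := mem_actor hK g.2
        refine ⟨i, ?_⟩
        rw [← QuotientGroup.mk_pow, QuotientGroup.mk'_apply, eq_comm, QuotientGroup.eq,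
          Subgroup.mem_subgroupOf]
        refine MonoidHom.mem_range.2 ⟨ζ ^ 3 ^ (3 * i), ?_⟩
        push_cast
        rw [hi, show (f : MulAut (U K)) = frob by simp [f]]
        have e : (frob ^ i)⁻¹ = (frob ^ (3 * i) : MulAut (U K)) := inv_eq_of_mul_eq_one_left (by
          rw [← pow_add, show 3 * i + i = 4 * i by ring, pow_mul, frob_pow_four hK, one_pow])
        rw [e, ← mul_assoc, frob_pow_mul_scale, mul_assoc, ← pow_add,
          show 3 * i + i = 4 * i by ring, pow_mul frob, frob_pow_four hK, one_pow, mul_one]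
      exact Group.isSolvable_of_comm fun a b => by
        obtain ⟨i, rfl⟩ := hgen a
        obtain ⟨j, rfl⟩ := hgen b
        rw [← pow_add, ← pow_add, add_comm]
    exact Group.isSolvable_of_ker_le_range A.subtype (QuotientGroup.mk' A)
      (by rw [QuotientGroup.ker_mk', Subgroup.range_subtype])
  exact Group.isSolvable_of_ker_le_range
    (SemidirectProduct.inl : U K →* G K) SemidirectProduct.rightHom
    SemidirectProduct.range_inl_eq_ker_rightHom.symm.le

/-- A finite solvable group with the element orders `1, 2, 3, 4, 5, 6, 9, 12`. -/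
theorem exists_solvable_group :
    ∃ (H : Type) (_ : Group H) (_ : Fintype H),
      Group.IsSolvable H ∧ Set.range (orderOf : H → ℕ) = orders := by
  haveI : Fact (Nat.Prime 3) := ⟨Nat.prime_three⟩
  haveI := Fintype.ofFinite (GaloisField 3 4)
  have hK : Fintype.card (GaloisField 3 4) = 81 := by
    rw [← Nat.card_eq_fintype_card, GaloisField.card 3 4 (by norm_num)]; norm_num
  haveI : Finite (G (GaloisField 3 4)) := Finite.of_equiv _ SemidirectProduct.equivProd.symm
  exact ⟨G (GaloisField 3 4), inferInstance, Fintype.ofFinite _, isSolvable_group hK,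
    range_orderOf_group hK⟩

end CfsgLib.Spectrum.PSpFourThree
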